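import Mathlib
import Cfsg.Agent.H958.SixC.Conc
import Cfsg.Agent.LFourA.AltPsiAut

/-!
# S5927, S5928, `sixc_two`, BOX M: the automorphism of `A₆` of type `M₁₀` (helper905)

`exists_eps` : an automorphism `ε` of `A₆` with `ε z0 = z0²` exchanging the two subgroups `A₅` containing `z0`, and
mapping `(a0, b0)` to a conjugate of `(a0 b0, a0 b0⁻¹)`.
-/

set_option autoImplicit false

namespace Cfsg.Agent.H905.SixC

open Equiv Equiv.Perm
open Cfsg.Agent.Lib.AltCarmichael
open Cfsg.Agent.LFourA.AltPsiAut (NE mem_NE mem_NE_iff u3)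
open Cfsg.Agent.H163.E6.SixC (z0 g10 g20 t0 a0 b0)
open Cfsg.Agent.H958.SixC (xx)

/-- the alternating group -/
abbrev A6 := ↥(alternatingGroup (Fin 6))

def xo : ℕ → A6
  | 0 => ⟨c[0, 5, 4] * c[1, 2, 3], Perm.mem_alternatingGroup.2 (by decide +kernel)⟩
  | 1 => ⟨c[0, 1, 3] * c[2, 4, 5], Perm.mem_alternatingGroup.2 (by decide +kernel)⟩
  | 2 => ⟨c[0, 3, 5] * c[1, 4, 2], Perm.mem_alternatingGroup.2 (by decide +kernel)⟩
  | _ => ⟨c[0, 4, 1] * c[2, 5, 3], Perm.mem_alternatingGroup.2 (by decide +kernel)⟩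

theorem rel_xo : Rel 4 xo where
  cube := by
    intro i hi
    interval_cases i <;> (apply Subtype.ext; decide +kernel)
  sq := by
    intro i hi j hj hij
    interval_cases i <;> interval_cases j <;> first | exact absurd rfl hij | (apply Subtype.ext; decide +kernel)

/-- the conjugating element -/
def gg : A6 := ⟨c[0, 2, 3] * c[1, 5, 4], Perm.mem_alternatingGroup.2 (by decide +kernel)⟩

/-- the two involutions -/
def x10 : A6 := xx z0 g10
def x20 : A6 := xx z0 g20

/-- the values of the automorphism -/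
structure Eps (ε : MulAut A6) : Prop where
  z : ε z0 = z0 ^ 2
  x1 : ε ((z0 * z0 * x10 * z0) * x10 * (z0 * z0 * x10 * z0)⁻¹) = x20
  x2 : ε ((x20 * z0) * x20 * (x20 * z0)⁻¹) = x10
  a : ε a0 = gg * (a0 * b0) * gg⁻¹
  b : ε b0 = gg * (a0 * b0⁻¹) * gg⁻¹
  ne : ε ∉ NE

theorem exists_eps : ∃ ε : MulAut A6, Eps ε := by
  obtain ⟨φ, hφ⟩ := exists_hom (m := 4) (by norm_num) rel_xo
  have hinj : Function.Injective φ := by
    have hs : IsSimpleGroup (alternatingGroup (Fin 6)) := alternatingGroup.isSimpleGroup (by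
      rw [Nat.card_eq_fintype_card, Fintype.card_fin]; norm_num)
    rw [← MonoidHom.ker_eq_bot_iff]
    rcases hs.eq_bot_or_eq_top_of_normal φ.ker inferInstance with h | h
    · exact h
    · exfalso
      have h1 : (⟨cyc 4 0, cyc_mem 4 0 (by norm_num)⟩ : alternatingGroup (Fin (4 + 2))) ∈ φ.ker := by
        rw [h]; trivial
      rw [MonoidHom.mem_ker, hφ 0 (by norm_num)] at h1
      have := congrArg Subtype.val h1
      revert this; decide +kernel
  let ε : MulAut A6 := MulEquiv.ofBijective φ ((Finite.injective_iff_bijective).1 hinj)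
  have hε : ∀ x, ε x = φ x := fun x => rfl
  let c0 : A6 := ⟨cyc 4 0, cyc_mem 4 0 (by norm_num)⟩
  let c1 : A6 := ⟨cyc 4 1, cyc_mem 4 1 (by norm_num)⟩
  let c2 : A6 := ⟨cyc 4 2, cyc_mem 4 2 (by norm_num)⟩
  let c3 : A6 := ⟨cyc 4 3, cyc_mem 4 3 (by norm_num)⟩
  have e0 : ε c0 = xo 0 := hφ 0 (by norm_num)
  have e1 : ε c1 = xo 1 := hφ 1 (by norm_num)
  have e2 : ε c2 = xo 2 := hφ 2 (by norm_num)
  have e3 : ε c3 = xo 3 := hφ 3 (by norm_num)
  have wz : z0 = c3 * c1 * c2 * c0 * c1 := by apply Subtype.ext; decide +kernel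
  have wx1 : x10 = c0 * c0 * c1 * c3 * c0 := by apply Subtype.ext; decide +kernel
  have wx2 : x20 = c1 * c0 := by apply Subtype.ext; decide +kernel
  have wa : a0 = c0 * c1 * c2 * c0 * c1 := by apply Subtype.ext; decide +kernel
  have wb : b0 = c3 := by apply Subtype.ext; decide +kernel
  have vz : ε z0 = xo 3 * xo 1 * xo 2 * xo 0 * xo 1 := by
    rw [wz, map_mul, map_mul, map_mul, map_mul, e0, e1, e2, e3]
  have vx1 : ε x10 = xo 0 * xo 0 * xo 1 * xo 3 * xo 0 := by
    rw [wx1, map_mul, map_mul, map_mul, map_mul, e0, e1, e3]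
  have vx2 : ε x20 = xo 1 * xo 0 := by rw [wx2, map_mul, e0, e1]
  have va : ε a0 = xo 0 * xo 1 * xo 2 * xo 0 * xo 1 := by
    rw [wa, map_mul, map_mul, map_mul, map_mul, e0, e1, e2]
  have vb : ε b0 = xo 3 := by rw [wb, e3]
  refine ⟨ε, ?_, ?_, ?_, ?_, ?_, ?_⟩
  · rw [vz]; apply Subtype.ext; decide +kernel
  · simp only [map_mul, map_inv, vz, vx1]; apply Subtype.ext; decide +kernel
  · simp only [map_mul, map_inv, vz, vx2]; apply Subtype.ext; decide +kernel
  · rw [va]; apply Subtype.ext; decide +kernel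
  · rw [vb]; apply Subtype.ext; decide +kernel
  · intro hne
    have h1 := mem_NE_iff.1 hne
    have hu : u3 = a0 := by apply Subtype.ext; decide +kernel
    rw [hu, va] at h1
    have h2 := h1.card_support
    revert h2
    decide +kernel

end Cfsg.Agent.H905.SixC
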