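import Mathlib
import Cfsg.Agent.H905.SixC.Eps
import Cfsg.Agent.H16.E6.Cov

/-!
# S5927, S5928, `sixc_two`, BOX M (helper905)

`Cfsg.Agent.H163.E6.SixC.m10` : if the three-fold cover of `A₆` is involved and `H` is larger than the alternating group
then an element of the preimage of `H` acts as the automorphism of type `M₁₀`.
-/

set_option autoImplicit false

namespace Cfsg.Agent.H905.SixC

open Cfsg Cfsg.Lie Module Equiv Equiv.Perm
open Cfsg.Agent.ChevalleyStructure.E6Min.Tables Cfsg.Agent.ChevalleyStructure.E6Min.Basic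
  Cfsg.Agent.ChevalleyStructure.E6Min.Adjoint
open Cfsg.Agent.LFourA.AltPsiAut (NE mem_NE mem_NE_iff inv_mul_mem exists_perm)
open Cfsg.Agent.H163.E6
open Cfsg.Agent.H163.E6.SixC (z0 g10 g20 t0 a0 b0)
open Cfsg.Agent.H958.SixC (xx KF)

universe u

variable {F : Type u} [Field F] {H : Subgroup ↥(chevE6.group F)}
  {φ : ↥(alternatingGroup (Fin 6)) →* ↥(chevE6.group F)}

/-- the automorphism induced by an element of `H` -/
theorem exists_aut (hS : Sit H 6 φ) {h : ↥(chevE6.group F)} (hh : h ∈ H) :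
    ∃ α : MulAut A6, ∀ a, h * φ a * h⁻¹ = φ (α a) := by
  have hex : ∀ x, ∃ y, φ y = h * φ x * h⁻¹ := fun x => hS.norm h hh (φ x) ⟨x, rfl⟩
  choose f hf using hex
  have hinj : Function.Injective f := by
    intro x y hxy
    have h1 := hf x
    rw [hxy, hf y] at h1
    exact hS.inj (mul_left_cancel (mul_right_cancel h1)).symm
  exact ⟨MulEquiv.ofBijective (MonoidHom.mk' f (fun x y => hS.inj (by rw [hf, map_mul, map_mul, hf, hf]; group)))
    (Finite.injective_iff_bijective.mp hinj), fun a => (hf a).symm⟩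

/-- an element of `H` inducing an inner automorphism belongs to the alternating group -/
theorem mem_of_inner (hS : Sit H 6 φ) {h : ↥(chevE6.group F)} (hh : h ∈ H) {s : A6}
    (hs : ∀ a, h * φ a * h⁻¹ = φ (s * a * s⁻¹)) : h ∈ φ.range := by
  have hm : h * (φ s)⁻¹ = 1 := by
    refine hS.cent _ (mul_mem hh (inv_mem (hS.le ⟨s, rfl⟩))) fun x => ?_
    have h1 := hs (s⁻¹ * x * s)
    rw [show s * (s⁻¹ * x * s) * s⁻¹ = x by group, map_mul, map_mul, map_inv] at h1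
    calc φ x * (h * (φ s)⁻¹) = h * ((φ s)⁻¹ * φ x * φ s) * h⁻¹ * (h * (φ s)⁻¹) := by rw [h1]
      _ = h * (φ s)⁻¹ * φ x := by group
  exact ⟨s, (mul_inv_eq_one.mp hm).symm⟩

/-- commutators of lifts of commuting elements are invariant -/
theorem comm_eq {h : ↥(chevE6.group F)} {a b a' b' : A6} (ha : h * φ a * h⁻¹ = φ a') (hb : h * φ b * h⁻¹ = φ b')
    (hab : a * b = b * a) {x y x' y' : ↥(Zgrp F)} (hx : ad F x = φ a) (hy : ad F y = φ b) (hx' : ad F x' = φ a')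
    (hy' : ad F y' = φ b') : x' * y' * x'⁻¹ * y'⁻¹ = x * y * x⁻¹ * y⁻¹ := by
  obtain ⟨g, hg⟩ := ad_surjective h
  have k1 : ad F (x'⁻¹ * (g * x * g⁻¹)) = 1 := by
    rw [map_mul, map_inv, map_mul, map_mul, map_inv, hg, hx, hx', ha, inv_mul_cancel]
  have k2 : ad F (y'⁻¹ * (g * y * g⁻¹)) = 1 := by
    rw [map_mul, map_inv, map_mul, map_mul, map_inv, hg, hy, hy', hb, inv_mul_cancel]
  have k3 : ad F (x * y * x⁻¹ * y⁻¹) = 1 := by
    rw [map_mul, map_mul, map_mul, map_inv, map_inv, hx, hy, ← map_inv, ← map_inv, ← map_mul, ← map_mul, ← map_mul,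
      hab, mul_inv_cancel_right, mul_inv_cancel, map_one]
  set c := x'⁻¹ * (g * x * g⁻¹) with hc
  set d := y'⁻¹ * (g * y * g⁻¹) with hd
  have e1 : x' = g * x * g⁻¹ * c⁻¹ := by rw [hc]; group
  have e2 : y' = g * y * g⁻¹ * d⁻¹ := by rw [hd]; group
  have q1 : ∀ w : ↥(Zgrp F), w * c = c * w := fun w => Cov.ker_comm k1 w
  have q2 : ∀ w : ↥(Zgrp F), w * d = d * w := fun w => Cov.ker_comm k2 w
  have q1' : ∀ w : ↥(Zgrp F), w * c⁻¹ = c⁻¹ * w := fun w => ((Commute.inv_right (q1 w) : Commute w c⁻¹)).eq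
  have q2' : ∀ w : ↥(Zgrp F), w * d⁻¹ = d⁻¹ * w := fun w => ((Commute.inv_right (q2 w) : Commute w d⁻¹)).eq
  have q3 := Cov.ker_comm k3
  calc x' * y' * x'⁻¹ * y'⁻¹ = (g * x * g⁻¹ * c⁻¹) * (g * y * g⁻¹ * d⁻¹) * (g * x * g⁻¹ * c⁻¹)⁻¹ *
        (g * y * g⁻¹ * d⁻¹)⁻¹ := by rw [← e1, ← e2]
    _ = g * x * g⁻¹ * (c⁻¹ * (g * y * g⁻¹ * d⁻¹)) * (c * (g * x * g⁻¹)⁻¹) * (d * (g * y * g⁻¹)⁻¹) := by group
    _ = g * x * g⁻¹ * (g * y * g⁻¹ * d⁻¹ * c⁻¹) * (c * (g * x * g⁻¹)⁻¹) * (d * (g * y * g⁻¹)⁻¹) := by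
        rw [← q1' (g * y * g⁻¹ * d⁻¹)]
    _ = g * x * g⁻¹ * (g * y * g⁻¹) * (d⁻¹ * (g * x * g⁻¹)⁻¹) * (d * (g * y * g⁻¹)⁻¹) := by group
    _ = g * x * g⁻¹ * (g * y * g⁻¹) * ((g * x * g⁻¹)⁻¹ * d⁻¹) * (d * (g * y * g⁻¹)⁻¹) := by rw [← q2']
    _ = g * (x * y * x⁻¹ * y⁻¹) * g⁻¹ := by group
    _ = x * y * x⁻¹ * y⁻¹ := by rw [q3 g]; group

/-- the commutator of lifts of `(0 1 2)` and `(3 4 5)` -/
theorem comm_ne [Finite F] (hφ : Function.Injective φ) {ω : Fˣ} (hc : Cover φ ω) {x y : ↥(Zgrp F)} (hx : ad F x = φ a0)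
    (hy : ad F y = φ b0) : ad F (x * y * x⁻¹ * y⁻¹) = 1 ∧ x * y * x⁻¹ * y⁻¹ ≠ 1 := by
  constructor
  · have hab : a0 * b0 = b0 * a0 := by apply Subtype.ext; decide +kernel
    rw [map_mul, map_mul, map_mul, map_inv, map_inv, hx, hy, ← map_inv, ← map_inv, ← map_mul, ← map_mul, ← map_mul,
      hab, mul_inv_cancel_right, mul_inv_cancel, map_one]
  · intro h1
    have ha : ((a0 : A6) : Perm (Fin 6)).cycleType = {3} := by
      have h3 : ((a0 : A6) : Perm (Fin 6)).IsThreeCycle := by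
        rw [← card_support_eq_three_iff]; decide +kernel
      exact h3
    have hb : ((b0 : A6) : Perm (Fin 6)).cycleType = {3} := by
      have h3 : ((b0 : A6) : Perm (Fin 6)).IsThreeCycle := by
        rw [← card_support_eq_three_iff]; decide +kernel
      exact h3
    have hab : ((a0 : A6) : Perm (Fin 6)).Disjoint ((b0 : A6) : Perm (Fin 6)) := by
      intro i
      revert i
      decide +kernel
    have h2 := Cov.not_comm (Or.inl rfl) hφ hc ha hb hab hx hy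
    rw [h1] at h2
    rcases h2 with ⟨-, h2⟩ | ⟨-, h2⟩
    · have h3 : (scal (1 : Fˣ) : GL I27 F) = scal ω := by rw [Cov.scal_one, ← h2]; rfl
      exact hc.1 (Cov.scal_injective h3).symm
    · have h3 : (scal (1 : Fˣ) : GL I27 F) = scal ω⁻¹ := by rw [Cov.scal_one, ← h2]; rfl
      exact hc.1 (by rw [← inv_inv ω, ← Cov.scal_injective h3, inv_one])

theorem eq_one_of_sq {c : ↥(Zgrp F)} (hc : ad F c = 1) (h2 : c * c = 1) : c = 1 := by
  have h3 := Cov.ker_pow hc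
  rw [pow_succ, pow_two, h2, one_mul] at h3
  exact h3

/-- the odd permutation `(3 4)` -/
def s34 : Perm (Fin 6) := swap 3 4

theorem s34_sign : sign s34 = -1 := by decide

/-- an odd permutation is not induced -/
theorem not_odd [Finite F] (hφ : Function.Injective φ) {ω : Fˣ} (hc : Cover φ ω) {h : ↥(chevE6.group F)}
    (ha : h * φ a0 * h⁻¹ = φ a0) (hb : h * φ b0 * h⁻¹ = φ b0⁻¹) : False := by
  obtain ⟨x, hx⟩ := ad_surjective (φ a0)
  obtain ⟨y, hy⟩ := ad_surjective (φ b0)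
  have hab : a0 * b0 = b0 * a0 := by apply Subtype.ext; decide +kernel
  obtain ⟨k1, k2⟩ := comm_ne hφ hc hx hy
  have k3 := comm_eq ha hb hab hx hy hx (y' := y⁻¹) (by rw [map_inv, hy, map_inv])
  apply k2
  apply eq_one_of_sq k1
  have q := Cov.ker_comm k1
  set c := x * y * x⁻¹ * y⁻¹ with hcd
  have q' : ∀ w : ↥(Zgrp F), w * c⁻¹ = c⁻¹ * w := fun w => ((Commute.inv_right (q w) : Commute w c⁻¹)).eq
  have e1 : c = c⁻¹ := by
    calc c = x * y⁻¹ * x⁻¹ * y⁻¹⁻¹ := k3.symm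
      _ = y⁻¹ * c⁻¹ * y := by rw [hcd]; group
      _ = c⁻¹ := by rw [q' y⁻¹, inv_mul_cancel_right]
  nth_rw 1 [e1]
  rw [inv_mul_cancel]

/-- the automorphism `ε ∘ (3 4)` is not induced -/
theorem not_eps_odd [Finite F] (hφ : Function.Injective φ) {ω : Fˣ} (hc : Cover φ ω) {h : ↥(chevE6.group F)}
    (ha : h * φ a0 * h⁻¹ = φ (gg * (a0 * b0) * gg⁻¹)) (hb : h * φ b0 * h⁻¹ = φ (gg * (a0 * b0⁻¹) * gg⁻¹)⁻¹) :
    False := by
  obtain ⟨x, hx⟩ := ad_surjective (φ a0)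
  obtain ⟨y, hy⟩ := ad_surjective (φ b0)
  obtain ⟨g, hg⟩ := ad_surjective (φ gg)
  have hab : a0 * b0 = b0 * a0 := by apply Subtype.ext; decide +kernel
  obtain ⟨k1, k2⟩ := comm_ne hφ hc hx hy
  have k3 := comm_eq ha hb hab hx hy (x' := g * (x * y) * g⁻¹) (y' := (g * (x * y⁻¹) * g⁻¹)⁻¹)
    (by simp only [map_mul, map_inv, hx, hy, hg]) (by simp only [map_mul, map_inv, hx, hy, hg])
  have q := Cov.ker_comm k1
  set c := x * y * x⁻¹ * y⁻¹ with hcd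
  -- `c = g [x y, y x⁻¹] g⁻¹ = g c² g⁻¹`
  have e1 : c = c * c := by
    calc c = g * (x * y) * g⁻¹ * (g * (x * y⁻¹) * g⁻¹)⁻¹ * (g * (x * y) * g⁻¹)⁻¹ *
          (g * (x * y⁻¹) * g⁻¹)⁻¹⁻¹ := k3.symm
      _ = g * (c * (y * c) * y⁻¹) * g⁻¹ := by rw [hcd]; group
      _ = g * (c * c) * g⁻¹ := by rw [q y]; group
      _ = c * c := by
        rw [← mul_assoc g c c, q g, mul_assoc c g c, q g]
        group
  apply k2
  have h5 : c * 1 = c * c := by rw [mul_one]; exact e1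
  exact (mul_left_cancel h5).symm

theorem s34_conj : ∀ a : A6, ∃ b : A6, (b : Perm (Fin 6)) = s34 * a * s34⁻¹ := by
  intro a
  refine ⟨⟨s34 * a * s34⁻¹, ?_⟩, rfl⟩
  rw [mem_alternatingGroup, map_mul, map_mul, map_inv, mem_alternatingGroup.1 a.2, mul_one, mul_inv_cancel]

/-- **An element of `H` outside the alternating group can be chosen to induce `ε`.** -/
theorem exists_h [Finite F] (hS : Sit H 6 φ) {ω : Fˣ} (hc : Cover φ ω) {h : ↥(chevE6.group F)} (hh : h ∈ H)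
    (hn : h ∉ φ.range) {ε : MulAut A6} (hε : Eps ε) : ∃ h' ∈ H, ∀ a, h' * φ a * h'⁻¹ = φ (ε a) := by
  obtain ⟨α, hα⟩ := exists_aut hS hh
  -- composition with inner automorphisms
  have hcomp : ∀ t : A6, ∀ a, (h * φ t) * φ a * (h * φ t)⁻¹ = φ (α (t * a * t⁻¹)) := by
    intro t a
    rw [← hα, map_mul, map_mul, map_inv]
    group
  have hmem : ∀ t : A6, h * φ t ∈ H := fun t => mul_mem hh (hS.le ⟨t, rfl⟩)
  have hs0 : ∀ σ : Perm (Fin 6), sign σ = -1 → sign (σ⁻¹ * s34) = 1 := by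
    intro σ hσ
    rw [map_mul, map_inv, hσ, s34_sign]
    decide
  have sa : s34 * ((a0 : A6) : Perm (Fin 6)) * s34⁻¹ = ((a0 : A6) : Perm (Fin 6)) := by decide +kernel
  have sb : s34 * ((b0 : A6) : Perm (Fin 6)) * s34⁻¹ = ((b0⁻¹ : A6) : Perm (Fin 6)) := by decide +kernel
  have hα0 : α ∉ NE := by
    intro hne
    obtain ⟨σ, hσ⟩ := exists_perm hne
    rcases Int.units_eq_one_or (sign σ) with h1 | h1
    · apply hn
      refine mem_of_inner hS hh (s := ⟨σ, mem_alternatingGroup.2 h1⟩) fun a => ?_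
      rw [hα]
      congr 1
      exact Subtype.ext (hσ a)
    · let t : A6 := ⟨σ⁻¹ * s34, mem_alternatingGroup.2 (hs0 σ h1)⟩
      have ht : ∀ a : A6, (α (t * a * t⁻¹) : Perm (Fin 6)) = s34 * a * s34⁻¹ := by
        intro a
        rw [hσ]
        show σ * (σ⁻¹ * s34 * a * (σ⁻¹ * s34)⁻¹) * σ⁻¹ = _
        group
      refine not_odd hS.inj hc (h := h * φ t) ?_ ?_
      · rw [hcomp]
        congr 1
        exact Subtype.ext ((ht a0).trans sa)
      · rw [hcomp]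
        congr 1
        exact Subtype.ext ((ht b0).trans sb)
  obtain ⟨σ, hσ⟩ := exists_perm (inv_mul_mem hε.ne hα0)
  have hσ' : ∀ a b : A6, (b : Perm (Fin 6)) = σ * a * σ⁻¹ → α a = ε b := by
    intro a b hb
    have h1 : (ε⁻¹ * α) a = b := Subtype.ext ((hσ a).trans hb.symm)
    rw [← h1, MulAut.mul_apply, MulAut.apply_inv_self]
  rcases Int.units_eq_one_or (sign σ) with h1 | h1
  · let t : A6 := ⟨σ⁻¹, mem_alternatingGroup.2 (by rw [map_inv, h1, inv_one])⟩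
    refine ⟨h * φ t, hmem t, fun a => ?_⟩
    rw [hcomp]
    congr 1
    apply hσ'
    show (a : Perm (Fin 6)) = σ * (σ⁻¹ * a * σ⁻¹⁻¹) * σ⁻¹
    group
  · exfalso
    let t : A6 := ⟨σ⁻¹ * s34, mem_alternatingGroup.2 (hs0 σ h1)⟩
    have ht : ∀ a b : A6, (b : Perm (Fin 6)) = s34 * a * s34⁻¹ → α (t * a * t⁻¹) = ε b := by
      intro a b hb
      apply hσ'
      rw [hb]
      show _ = σ * (σ⁻¹ * s34 * a * (σ⁻¹ * s34)⁻¹) * σ⁻¹
      group
    refine not_eps_odd hS.inj hc (h := h * φ t) ?_ ?_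
    · rw [hcomp, ht a0 a0 sa.symm, hε.a]
    · rw [hcomp, ht b0 b0⁻¹ sb.symm, map_inv, hε.b]

/-! ### lifts -/

/-- lifts of order prime to 3 are unique -/
theorem lift_unique {x y : ↥(Zgrp F)} (h : ad F x = ad F y) {m k : ℕ} (hx : x ^ m = 1) (hy : y ^ m = 1)
    (hm : m * k = 3 * ((m * k - 1) / 3) + 1) : x = y := by
  have h1 : ad F (y⁻¹ * x) = 1 := by rw [map_mul, map_inv, h, inv_mul_cancel]
  set c := y⁻¹ * x with hcd
  have h3 := Cov.ker_pow h1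
  have q := Cov.ker_comm h1
  have e1 : x = y * c := by rw [hcd]; group
  have hcm : Commute y c := q y
  have e2 : c ^ m = 1 := by
    have h5 := hcm.mul_pow m
    rw [← e1, hx, hy, one_mul] at h5
    exact h5.symm
  have e3 : c = 1 := by
    have h6 : c ^ (m * k) = 1 := by rw [pow_mul, e2, one_pow]
    rw [hm, pow_succ, pow_mul, h3, one_pow, one_mul] at h6
    exact h6
  rw [e1, e3, mul_one]

theorem two_unique {x y : ↥(Zgrp F)} (h : ad F x = ad F y) (hx : x * x = 1) (hy : y * y = 1) : x = y :=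
  lift_unique (m := 2) (k := 2) h (by rw [pow_two, hx]) (by rw [pow_two, hy]) (by norm_num)

theorem five_unique {x y : ↥(Zgrp F)} (h : ad F x = ad F y) (hx : x ^ 5 = 1) (hy : y ^ 5 = 1) : x = y :=
  lift_unique (m := 5) (k := 2) h hx hy (by norm_num)

theorem xx_sq {P : Type*} [Group P] {z g : P} (hg : g * g = 1) : xx z g * xx z g = 1 := by
  show g * z * z * g * z⁻¹ * z⁻¹ * g * (g * z * z * g * z⁻¹ * z⁻¹ * g) = 1
  calc g * z * z * g * z⁻¹ * z⁻¹ * g * (g * z * z * g * z⁻¹ * z⁻¹ * g)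
      = g * z * z * g * z⁻¹ * z⁻¹ * (g * g) * z * z * g * z⁻¹ * z⁻¹ * g := by group
    _ = g * z * z * (g * (z⁻¹ * z⁻¹ * z * z) * g) * z⁻¹ * z⁻¹ * g := by rw [hg]; group
    _ = g * z * z * (g * g) * z⁻¹ * z⁻¹ * g := by rw [show z⁻¹ * z⁻¹ * z * z = 1 by group, mul_one]
    _ = g * (z * z * z⁻¹ * z⁻¹) * g := by rw [hg]; group
    _ = 1 := by rw [show z * z * z⁻¹ * z⁻¹ = 1 by group, mul_one, hg]

theorem map_xx {P Q : Type*} [Group P] [Group Q] (f : P →* Q) (z g : P) : f (xx z g) = xx (f z) (f g) := by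
  simp only [xx, map_mul, map_inv]

end Cfsg.Agent.H905.SixC

namespace Cfsg.Agent.H163.E6.SixC

open Cfsg Cfsg.Lie Module Equiv Equiv.Perm
open Cfsg.Agent.ChevalleyStructure.E6Min.Tables Cfsg.Agent.ChevalleyStructure.E6Min.Basic
  Cfsg.Agent.ChevalleyStructure.E6Min.Adjoint
open Cfsg.Agent.H958.SixC (xx KF)
open Cfsg.Agent.H905.SixC

universe u

variable {F : Type u} [Field F] [Finite F] {H : Subgroup ↥(chevE6.group F)}
  {φ : ↥(alternatingGroup (Fin 6)) →* ↥(chevE6.group F)}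

/-- **BOX M**: an element of type `M₁₀`. -/
theorem m10 (hS : Sit H 6 φ) {ω : Fˣ} (hω : Cover φ ω) (hh : ∃ h ∈ H, h ∉ φ.range) {z g₁ g₂ : ↥(Zgrp F)}
    (hz : ad F z = φ z0) (hz5 : z ^ 5 = 1) (h1 : ad F g₁ = φ g10) (h1' : g₁ * g₁ = 1) (h2 : ad F g₂ = φ g20)
    (h2' : g₂ * g₂ = 1) :
    ∃ u : ↥(Zgrp F), (∀ g, ad F g ∈ φ.range → ad F (u * g * u⁻¹) ∈ φ.range) ∧
      (∀ g, ad F g ∈ φ.range → ad F (u⁻¹ * g * u) ∈ φ.range) ∧ u * z * u⁻¹ = z ^ 2 ∧
      ∀ ρ : Representation F ↥(Zgrp F) (I27 → F), ∀ w, (KF ρ z g₁ w → KF ρ z g₂ (ρ u w)) ∧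
        (KF ρ z g₂ w → KF ρ z g₁ (ρ u w)) := by
  obtain ⟨h, hH, hn⟩ := hh
  obtain ⟨ε, hε⟩ := exists_eps
  obtain ⟨h', hH', hh'⟩ := exists_h hS hω hH hn hε
  obtain ⟨u, hu⟩ := ad_surjective h'
  have hx1 : ad F (xx z g₁) = φ x10 := by rw [map_xx, hz, h1, ← map_xx]; rfl
  have hx2 : ad F (xx z g₂) = φ x20 := by rw [map_xx, hz, h2, ← map_xx]; rfl
  have hs1 := xx_sq (z := z) h1'
  have hs2 := xx_sq (z := z) h2'
  have hzu : u * z * u⁻¹ = z ^ 2 := by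
    apply five_unique
    · rw [map_mul, map_mul, map_inv, hu, hz, hh', hε.z, map_pow, map_pow, hz]
    · rw [conj_pow, hz5, mul_one, mul_inv_cancel]
    · rw [← pow_mul, mul_comm, pow_mul, hz5, one_pow]
  have hconj : ∀ {x v : ↥(Zgrp F)}, x * x = 1 → (u * (v * x * v⁻¹) * u⁻¹) * (u * (v * x * v⁻¹) * u⁻¹) = 1 := by
    intro x v hx
    calc (u * (v * x * v⁻¹) * u⁻¹) * (u * (v * x * v⁻¹) * u⁻¹) = u * (v * (x * x) * v⁻¹) * u⁻¹ := by group
      _ = 1 := by rw [hx]; group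
  have c1 : u * ((z * z * xx z g₁ * z) * xx z g₁ * (z * z * xx z g₁ * z)⁻¹) * u⁻¹ = xx z g₂ := by
    refine two_unique ?_ (hconj hs1) hs2
    rw [hx2, ← hε.x1, ← hh']
    simp only [map_mul, map_inv, hu, hx1, hz]
  have c2 : u * ((xx z g₂ * z) * xx z g₂ * (xx z g₂ * z)⁻¹) * u⁻¹ = xx z g₁ := by
    refine two_unique ?_ (hconj hs2) hs1
    rw [hx1, ← hε.x2, ← hh']
    simp only [map_mul, map_inv, hu, hx2, hz]
  have hz3 : u * z ^ 3 * u⁻¹ = z := by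
    rw [← conj_pow, hzu, ← pow_mul]
    show z ^ 6 = z
    rw [pow_succ, hz5, one_mul]
  -- transport of fixed vectors
  have tr : ∀ (ρ : Representation F ↥(Zgrp F) (I27 → F)) (x y : ↥(Zgrp F)) (w : I27 → F), u * y * u⁻¹ = x →
      ρ y w = w → ρ x (ρ u w) = ρ u w := by
    intro ρ x y w hxy hy
    rw [← rho_mul, ← hxy, inv_mul_cancel_right, rho_mul, hy]
  have fix : ∀ (ρ : Representation F ↥(Zgrp F) (I27 → F)) (x y : ↥(Zgrp F)) (w : I27 → F), ρ x w = w → ρ y w = w →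
      ρ (x * y) w = w := by
    intro ρ x y w hx hy
    rw [rho_mul, hy, hx]
  have fixi : ∀ (ρ : Representation F ↥(Zgrp F) (I27 → F)) (x : ↥(Zgrp F)) (w : I27 → F), ρ x w = w →
      ρ x⁻¹ w = w := by
    intro ρ x w hx
    nth_rw 1 [← hx]
    rw [← rho_mul, inv_mul_cancel, map_one]
    rfl
  refine ⟨u, ?_, ?_, hzu, ?_⟩
  · intro g hg
    rw [map_mul, map_mul, map_inv, hu]
    exact hS.norm h' hH' _ hg
  · intro g hg
    rw [map_mul, map_mul, map_inv, hu]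
    have h3 := hS.norm h'⁻¹ (inv_mem hH') _ hg
    rwa [inv_inv] at h3
  · intro ρ w
    have hz3' : ρ z w = w → ρ (z ^ 3) w = w := by
      intro hw
      rw [pow_succ, pow_two]
      exact fix _ _ _ _ (fix _ _ _ _ hw hw) hw
    constructor
    · rintro ⟨k1, k2⟩
      refine ⟨tr ρ z (z ^ 3) w hz3 (hz3' k1), tr ρ _ _ w c1 ?_⟩
      have k3 : ρ (z * z * xx z g₁ * z) w = w := fix _ _ _ _ (fix _ _ _ _ (fix _ _ _ _ k1 k1) k2) k1
      exact fix _ _ _ _ (fix _ _ _ _ k3 k2) (fixi _ _ _ k3)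
    · rintro ⟨k1, k2⟩
      refine ⟨tr ρ z (z ^ 3) w hz3 (hz3' k1), tr ρ _ _ w c2 ?_⟩
      have k3 : ρ (xx z g₂ * z) w = w := fix _ _ _ _ k2 k1
      exact fix _ _ _ _ (fix _ _ _ _ k3 k2) (fixi _ _ _ k3)

end Cfsg.Agent.H163.E6.SixC
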