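import Mathlib
import Cfsg.Agent.H958.SixC.Hex2
import Cfsg.Agent.H905.E6T.Base

/-!
# S5927, S5928, `sixc_two`: the hexacode relation and the quadratic map `sh` (helper905)

`rr_sh` : if `s` satisfies the relation `rr = 0` then `rr (sh s)` (with the conjugate coefficient) is a combination of the
products `cr s_i s_j`; `rr_sh_ne` : it is not zero if these products are independent.
-/

set_option autoImplicit false

namespace Cfsg.Agent.H905.SixC

open Cfsg Cfsg.Lie Module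
open Cfsg.Agent.ChevalleyStructure.E6Min.Tables
open Cfsg.Agent.H952.F4 (ev es sh cr tf)
open Cfsg.Agent.H952.F4.Jord
open Cfsg.Agent.H905.E6T (PD cr_self2)
open Cfsg.Agent.H958.SixC

universe u

variable {F : Type u} [Field F] {P : Type*} [Group P] {ρ σ : Representation F P (I27 → F)}

theorem KF_sh (hP : PD ρ σ) {z g : P} {s : I27 → F} (k : KF ρ z g s) : KF σ z g (sh s) := by
  refine ⟨?_, ?_⟩
  · rw [← hP.hsh, k.1]
  · rw [← hP.hsh, k.2]

theorem rr_sh (hP : PD ρ σ) (h2 : (2 : F) = 0) {z g : P} {b : F} {s s0 s1 s2 : I27 → F} (e0 : ρ g s = s0)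
    (e1 : ρ z s0 = s1) (e2 : ρ z s1 = s2) (hr : rr ρ z g b s = 0) :
    rr σ z g (b * b) (sh s) = b • cr s0 s1 + b • cr s0 s2 + (b * b) • cr s1 s2 := by
  have e3 : ρ z s2 = s0 + b • s1 + b • s2 := by
    rw [rr, e0, e1, e2] at hr
    have h5 : ρ z s2 = (s0 + b • s1 + b • s2 + ρ z s2) - (s0 + b • s1 + b • s2) := by abel
    rw [h5, hr, zero_sub]
    have h6 : ∀ v : I27 → F, -v = v := by
      intro v
      have h7 : v + v = 0 := by rw [← two_smul F, h2, zero_smul]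
      exact neg_eq_of_add_eq_zero_left h7
    exact h6 _
  rw [rr, ← hP.hsh, e0, ← hP.hsh, e1, ← hP.hsh, e2, ← hP.hsh, e3, sh_add, sh_add, sh_smul, sh_smul, cr_add_left,
    cr_smul_right, cr_smul_right, cr_smul_left, cr_smul_right]
  have h3 : ∀ v : I27 → F, v + v = 0 := fun v => by rw [← two_smul F, h2, zero_smul]
  have : sh s0 + (b * b) • sh s1 + (b * b) • sh s2 + (sh s0 + b ^ 2 • sh s1 + b • cr s0 s1 + b ^ 2 • sh s2 +
      (b • cr s0 s2 + b • b • cr s1 s2)) = (sh s0 + sh s0) + ((b * b) • sh s1 + (b * b) • sh s1) +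
      ((b * b) • sh s2 + (b * b) • sh s2) + (b • cr s0 s1 + b • cr s0 s2 + (b * b) • cr s1 s2) := by
    module
  rw [this, h3 (sh s0), h3 ((b * b) • sh s1), h3 ((b * b) • sh s2), add_zero, add_zero, zero_add]

theorem rr_sh_ne (hP : PD ρ σ) (h2 : (2 : F) = 0) {z g : P} {b : F} (hb : b ≠ 0) {s s0 s1 s2 : I27 → F}
    (e0 : ρ g s = s0) (e1 : ρ z s0 = s1) (e2 : ρ z s1 = s2) (hr : rr ρ z g b s = 0)
    (h3 : finrank F ↥(Submodule.span F ({cr s0 s1, cr s0 s2, cr s1 s2} : Set (I27 → F))) = 3) :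
    rr σ z g (b * b) (sh s) ≠ 0 := by
  intro h0
  rw [rr_sh hP h2 e0 e1 e2 hr] at h0
  exact hb (indep3 h3 h0).1

/-- `rr (sh s)` belongs to the subspace generated by the products -/
theorem rr_sh_mem (hP : PD ρ σ) (h2 : (2 : F) = 0) {z g : P} {b : F} {s s0 s1 s2 : I27 → F} (e0 : ρ g s = s0)
    (e1 : ρ z s0 = s1) (e2 : ρ z s1 = s2) (hr : rr ρ z g b s = 0) :
    rr σ z g (b * b) (sh s) ∈ Submodule.span F ({cr s0 s1, cr s0 s2, cr s1 s2} : Set (I27 → F)) := by
  rw [rr_sh hP h2 e0 e1 e2 hr]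
  exact mem3 _ _ _

end Cfsg.Agent.H905.SixC
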