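import Mathlib
import Cfsg.Agent.H801.SixS
import Cfsg.Agent.H958.SixC.Hex2

/-!
# S5927, S5928, `sixc_two`: the two types of 3-dimensional modules (helper905)
-/

set_option autoImplicit false

namespace Cfsg.Agent.H905.SixC

open Module
open Cfsg.Agent.H952.F4 (ev)
open Cfsg.Agent.H958.SixC

section

variable {F P M : Type*} [Field F] [Group P] [AddCommGroup M] [Module F M]

/-- functionals fixed by `⟨z, xx z g⟩` -/
def KD (ρ : Representation F P M) (z g : P) (f : Module.Dual F M) : Prop :=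
  (∀ v, f (ρ z v) = f v) ∧ ∀ v, f (ρ (xx z g) v) = f v

variable {ρ : Representation F P M} {ζ z g₁ g₂ β t a : P} {c : F}

theorem fix_of_gen {S : Set P} (hS : Subgroup.closure S = ⊤) {w : M} (h : ∀ g ∈ S, ρ g w = w) (g : P) : ρ g w = w := by
  have hg : g ∈ Subgroup.closure S := by rw [hS]; exact Subgroup.mem_top g
  induction hg using Subgroup.closure_induction with
  | mem x hx => exact h x hx
  | one => rw [map_one]; rfl
  | mul x y _ _ hx hy => rw [mul_ap, hy, hx]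
  | inv x _ hx =>
    nth_rw 1 [← hx]
    exact inv_ap ρ x w

theorem dfix_of_gen {S : Set P} (hS : Subgroup.closure S = ⊤) {f : Module.Dual F M} (h : ∀ g ∈ S, ∀ v, f (ρ g v) = f v)
    (g : P) : ∀ v, f (ρ g v) = f v := by
  have hg : g ∈ Subgroup.closure S := by rw [hS]; exact Subgroup.mem_top g
  induction hg using Subgroup.closure_induction with
  | mem x hx => exact h x hx
  | one => intro v; rw [map_one]; rfl
  | mul x y _ _ hx hy => intro v; rw [mul_ap, hx, hy]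
  | inv x _ hx =>
    intro v
    rw [← hx (ρ x⁻¹ v), ap_inv]

theorem not_both (hF : Full ζ z g₁ g₂ β t a) (hc : Ch ρ ζ c) {w : M} (h1 : KF ρ z g₁ w) (h2 : KF ρ z g₂ w) : w = 0 := by
  have h3 := fix_of_gen (ρ := ρ) hF.gen12 (w := w) (by
    rintro g (rfl | rfl | rfl)
    · exact h1.1
    · exact h1.2
    · exact h2.2) ζ
  rw [hc.act] at h3
  have h4 : (c - 1) • w = 0 := by rw [sub_smul, one_smul, h3, sub_self]
  exact (smul_eq_zero.1 h4).resolve_left (sub_ne_zero.2 hc.ne)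

theorem not_both' (hF : Full ζ z g₁ g₂ β t a) (hc : Ch ρ ζ c) {f : Module.Dual F M} (h1 : KD ρ z g₁ f)
    (h2 : KD ρ z g₂ f) : f = 0 := by
  have h3 := dfix_of_gen (ρ := ρ) hF.gen12 (f := f) (by
    rintro g (rfl | rfl | rfl)
    · exact h1.1
    · exact h1.2
    · exact h2.2) ζ
  refine LinearMap.ext fun v => ?_
  have h4 := h3 v
  rw [hc.act, map_smul, smul_eq_mul] at h4
  have h5 : (c - 1) * f v = 0 := by linear_combination h4
  exact (mul_eq_zero.1 h5).resolve_left (sub_ne_zero.2 hc.ne)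

end

section

variable {F P M : Type*} [Field F] [CharP F 2] [Group P] [AddCommGroup M] [Module F M] [FiniteDimensional F M]
variable {ρ : Representation F P M} {ζ z g₁ g₂ β t a : P} {c : F}

theorem ev_one (hF : Full ζ z g₁ g₂ β t a) (hc : Ch ρ ζ c) (h3 : finrank F M = 3) : ev (ρ z) 1 = 1 := by
  have h1 := ev_le hF ρ hc
  have h2 := even_sub hF.h1.z5 hF.tt hF.tz ρ
  rw [h3] at h1 h2
  rcases h2 with ⟨k, hk⟩
  omega

omit [CharP F 2] in
theorem unique_fix (h1 : ev (ρ z) 1 = 1) {w w' : M} (hw : w ≠ 0) (hz : ρ z w = w) (hz' : ρ z w' = w') :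
    ∃ r : F, w' = r • w := by
  have h2 : finrank F ↥(Module.End.eigenspace (ρ z) 1) = 1 := h1
  have hm : w ∈ Module.End.eigenspace (ρ z) 1 := by rw [Module.End.mem_eigenspace_iff, one_smul, hz]
  have hm' : w' ∈ Module.End.eigenspace (ρ z) 1 := by rw [Module.End.mem_eigenspace_iff, one_smul, hz']
  obtain ⟨r, hr⟩ := (finrank_eq_one_iff_of_nonzero' (⟨w, hm⟩ : ↥(Module.End.eigenspace (ρ z) 1))
    (fun h => hw (congrArg Subtype.val h))).1 h2 ⟨w', hm'⟩
  exact ⟨r, (congrArg Subtype.val hr).symm⟩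

omit [CharP F 2] in
theorem unique_dual (h1 : ev (ρ z) 1 = 1) {f f' : Module.Dual F M} (hf : f ≠ 0) (hz : ∀ v, f (ρ z v) = f v)
    (hz' : ∀ v, f' (ρ z v) = f' v) : ∃ r : F, f' = r • f := by
  -- both vanish on the range of `ρ z - 1`, of codimension 1
  have h2 := Cfsg.Agent.H952.F4.Scott.rank_add_ev (ρ z)
  have hle : LinearMap.range (ρ z - 1) ≤ LinearMap.ker f := by
    rintro _ ⟨v, rfl⟩
    rw [LinearMap.mem_ker, LinearMap.sub_apply, Module.End.one_apply, map_sub, hz, sub_self]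
  have hle' : LinearMap.range (ρ z - 1) ≤ LinearMap.ker f' := by
    rintro _ ⟨v, rfl⟩
    rw [LinearMap.mem_ker, LinearMap.sub_apply, Module.End.one_apply, map_sub, hz', sub_self]
  obtain ⟨v0, hv0⟩ : ∃ v, f v ≠ 0 := by
    by_contra h
    push Not at h
    exact hf (LinearMap.ext h)
  have h3 : finrank F ↥(LinearMap.ker f) + 1 = finrank F M := by
    have h4 := LinearMap.finrank_range_add_finrank_ker f
    have h5 : finrank F ↥(LinearMap.range f) = 1 := by
      have h6 : LinearMap.range f = ⊤ := by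
        rw [LinearMap.range_eq_top]
        exact LinearMap.surjective hf
      rw [h6, finrank_top, finrank_self]
    omega
  have h4 : LinearMap.range (ρ z - 1) = LinearMap.ker f := by
    apply Submodule.eq_of_le_of_finrank_eq hle
    omega
  refine ⟨f' v0 * (f v0)⁻¹, LinearMap.ext fun v => ?_⟩
  have h5 : v - (f v * (f v0)⁻¹) • v0 ∈ LinearMap.ker f := by
    rw [LinearMap.mem_ker, map_sub, map_smul, smul_eq_mul, mul_assoc, inv_mul_cancel₀ hv0, mul_one, sub_self]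
  rw [← h4] at h5
  have h6 := hle' h5
  rw [LinearMap.mem_ker, map_sub, map_smul, smul_eq_mul, sub_eq_zero] at h6
  rw [h6, LinearMap.smul_apply, smul_eq_mul]
  ring

omit [CharP F 2] [FiniteDimensional F M] in
theorem KF_smul {g : P} {w : M} (r : F) (h : KF ρ z g w) : KF ρ z g (r • w) :=
  ⟨by rw [map_smul, h.1], by rw [map_smul, h.2]⟩

omit [CharP F 2] [FiniteDimensional F M] in
theorem KD_smul {g : P} {f : Module.Dual F M} (r : F) (h : KD ρ z g f) : KD ρ z g (r • f) :=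
  ⟨fun v => by rw [LinearMap.smul_apply, LinearMap.smul_apply, h.1],
    fun v => by rw [LinearMap.smul_apply, LinearMap.smul_apply, h.2]⟩

/-- a 3-dimensional module has exactly one type -/
theorem types (hF : Full ζ z g₁ g₂ β t a) (hc : Ch ρ ζ c) (h3 : finrank F M = 3) :
    ((∃ w, w ≠ 0 ∧ KF ρ z g₁ w) ∧ (∃ f, f ≠ 0 ∧ KD ρ z g₂ f) ∧ (∀ w, KF ρ z g₂ w → w = 0) ∧
      (∀ f, KD ρ z g₁ f → f = 0)) ∨
    ((∃ w, w ≠ 0 ∧ KF ρ z g₂ w) ∧ (∃ f, f ≠ 0 ∧ KD ρ z g₁ f) ∧ (∀ w, KF ρ z g₁ w → w = 0) ∧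
      (∀ f, KD ρ z g₂ f → f = 0)) := by
  have h1 := ev_one hF hc h3
  have k1 := fourfix hF.h1 ρ hc (by rw [h3, h1]; norm_num)
  have k2 := fourfix hF.h2 ρ hc (by rw [h3, h1]; norm_num)
  have u1 : ∀ {w w' : M}, w ≠ 0 → KF ρ z g₁ w → KF ρ z g₂ w' → w' = 0 := by
    intro w w' hw hk hk'
    obtain ⟨r, rfl⟩ := unique_fix h1 hw hk.1 hk'.1
    exact not_both hF hc (KF_smul r hk) hk'
  have u2 : ∀ {f f' : Module.Dual F M}, f ≠ 0 → KD ρ z g₁ f → KD ρ z g₂ f' → f' = 0 := by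
    intro f f' hf hk hk'
    obtain ⟨r, rfl⟩ := unique_dual h1 hf hk.1 hk'.1
    exact not_both' hF hc (KD_smul r hk) hk'
  rcases k1 with ⟨w, hw, hk⟩ | ⟨f, hf, hk⟩
  · left
    rcases k2 with ⟨w', hw', hk'⟩ | ⟨f', hf', hk'⟩
    · exact absurd (u1 hw hk hk') hw'
    · refine ⟨⟨w, hw, hk⟩, ⟨f', hf', hk'⟩, fun w' hk' => u1 hw hk hk', fun f hf => ?_⟩
      by_contra hne
      exact hf' (u2 hne hf hk')
  · right
    rcases k2 with ⟨w', hw', hk'⟩ | ⟨f', hf', hk'⟩
    · refine ⟨⟨w', hw', hk'⟩, ⟨f, hf, hk⟩, fun w hw => ?_, fun f' hk' => u2 hf hk hk'⟩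
      by_contra hne
      exact hw' (u1 hne hw hk')
    · exact absurd (u2 hf hk hk') hf'

end

end Cfsg.Agent.H905.SixC
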